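import Mathlib

/-!
# The derivation of the quadruple point in characteristic two
-/

set_option autoImplicit false

noncomputable section

open MvPolynomial

universe u

namespace Groth.Agent.Kum61

variable {R : Type u} [CommRing R] [CharP R 2]

theorem two_eq_zero {σ : Type*} : (2 : MvPolynomial σ R) = 0 := CharTwo.two_eq_zero

theorem deriv_expand {σ : Type*} (D : Derivation R (MvPolynomial σ R) (MvPolynomial σ R))
    (e : MvPolynomial σ R) : D (expand 2 e) = 0 := by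
  induction e using MvPolynomial.induction_on with
  | C r => rw [expand_C, ← MvPolynomial.algebraMap_eq, Derivation.map_algebraMap]
  | add p q hp hq => rw [map_add, map_add, hp, hq, add_zero]
  | mul_X p i hp =>
    rw [map_mul, expand_X, Derivation.leibniz, hp, smul_zero, add_zero, pow_two, Derivation.leibniz,
      smul_eq_mul, smul_eq_mul, ← two_mul, two_eq_zero, zero_mul, mul_zero]

theorem deriv_cube {σ : Type*} (D : Derivation R (MvPolynomial σ R) (MvPolynomial σ R))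
    (a : MvPolynomial σ R) : D (a ^ 3) = a ^ 2 * D a := by
  rw [Derivation.leibniz_pow, smul_eq_mul, nsmul_eq_mul]
  push_cast
  linear_combination (a ^ 2 * D a) * two_eq_zero (R := R) (σ := σ)

theorem expand_mem_adjoin (e : MvPolynomial (Fin 2) R) :
    expand 2 e ∈ Algebra.adjoin R ({X 0 ^ 2, X 1 ^ 2} : Set (MvPolynomial (Fin 2) R)) := by
  induction e using MvPolynomial.induction_on with
  | C r => rw [expand_C]; exact Subalgebra.algebraMap_mem _ r
  | add p q hp hq => rw [map_add]; exact add_mem hp hq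
  | mul_X p i hp =>
    rw [map_mul, expand_X]
    refine mul_mem hp (Algebra.subset_adjoin ?_)
    fin_cases i <;> simp

variable (l0 l2 l4 s0 s2 s4 τ : R)

/-- The third generator. -/
def gz : MvPolynomial (Fin 2) R :=
  (C s0 * X 1 ^ 4 + C s2 * X 1 ^ 2 + C s4) * X 0 ^ 3 +
    (C l0 * X 0 ^ 4 + C l2 * X 0 ^ 2 + C l4) * X 1 ^ 3 + C τ * X 0 ^ 3 * X 1 ^ 3

/-- Square root of the coefficient of `u ^ 3`. -/
def Sp : MvPolynomial (Fin 2) R := C s0 * X 1 ^ 2 + C s2 * X 1 + C s4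

/-- Square root of the coefficient of `v ^ 3`. -/
def Lp : MvPolynomial (Fin 2) R := C l0 * X 0 ^ 2 + C l2 * X 0 + C l4

theorem gz_eq : gz l0 l2 l4 s0 s2 s4 τ = expand 2 (Sp s0 s2 s4) * X 0 ^ 3 +
    expand 2 (Lp l0 l2 l4) * X 1 ^ 3 + C τ * X 0 ^ 3 * X 1 ^ 3 := by
  simp only [gz, Sp, Lp, map_add, map_mul, map_pow, expand_X, expand_C]
  ring

theorem pderiv_zero_gz : pderiv 0 (gz l0 l2 l4 s0 s2 s4 τ) =
    X 0 ^ 2 * expand 2 (Sp s0 s2 s4) + C τ * X 0 ^ 2 * X 1 ^ 3 := by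
  rw [gz_eq]
  simp only [map_add, Derivation.leibniz, smul_eq_mul, deriv_expand, deriv_cube, pderiv_C, pderiv_X_self,
    pderiv_X_of_ne (show (1 : Fin 2) ≠ 0 by decide)]
  ring

theorem pderiv_one_gz : pderiv 1 (gz l0 l2 l4 s0 s2 s4 τ) =
    X 1 ^ 2 * expand 2 (Lp l0 l2 l4) + C τ * X 0 ^ 3 * X 1 ^ 2 := by
  rw [gz_eq]
  simp only [map_add, Derivation.leibniz, smul_eq_mul, deriv_expand, deriv_cube, pderiv_C, pderiv_X_self,
    pderiv_X_of_ne (show (0 : Fin 2) ≠ 1 by decide)]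
  ring

/-- The derivation. -/
def Dv : Derivation R (MvPolynomial (Fin 2) R) (MvPolynomial (Fin 2) R) :=
  MvPolynomial.mkDerivation R
    (![X 1 ^ 2 * (C l0 * X 0 ^ 4 + C τ * X 0 ^ 3 + C l2 * X 0 ^ 2 + C l4),
       X 0 ^ 2 * (C s0 * X 1 ^ 4 + C τ * X 1 ^ 3 + C s2 * X 1 ^ 2 + C s4)] :
      Fin 2 → MvPolynomial (Fin 2) R)

theorem Dv_X0 : Dv l0 l2 l4 s0 s2 s4 τ (X 0) = X 1 ^ 2 * (expand 2 (Lp l0 l2 l4) + C τ * X 0 ^ 3) := by
  simp only [Dv, mkDerivation_X, Matrix.cons_val_zero, Lp, map_add, map_mul, map_pow, expand_X, expand_C]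
  ring

theorem Dv_X1 : Dv l0 l2 l4 s0 s2 s4 τ (X 1) = X 0 ^ 2 * (expand 2 (Sp s0 s2 s4) + C τ * X 1 ^ 3) := by
  simp only [Dv, mkDerivation_X, Matrix.cons_val_one, Matrix.cons_val_zero, Sp, map_add, map_mul, map_pow,
    expand_X, expand_C]
  ring

theorem decomp {a : MvPolynomial (Fin 2) R} (ha : a ∈ Algebra.adjoin R
      ({X 0 ^ 2, X 0 ^ 3, X 1 ^ 2, X 1 ^ 3} : Set (MvPolynomial (Fin 2) R))) :
    ∃ e0 e1 e2 e3 : MvPolynomial (Fin 2) R, a = expand 2 e0 + X 0 ^ 3 * expand 2 e1 +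
      X 1 ^ 3 * expand 2 e2 + X 0 ^ 3 * X 1 ^ 3 * expand 2 e3 := by
  induction ha using Algebra.adjoin_induction with
  | mem z hz =>
    rcases hz with rfl | rfl | rfl | rfl
    · exact ⟨X 0, 0, 0, 0, by simp⟩
    · exact ⟨0, 1, 0, 0, by simp⟩
    · exact ⟨X 1, 0, 0, 0, by simp⟩
    · exact ⟨0, 0, 1, 0, by simp⟩
  | algebraMap r => exact ⟨C r, 0, 0, 0, by simp [expand_C, MvPolynomial.algebraMap_eq]⟩
  | add x y _ _ hx hy =>
    obtain ⟨a0, a1, a2, a3, rfl⟩ := hx
    obtain ⟨b0, b1, b2, b3, rfl⟩ := hy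
    exact ⟨a0 + b0, a1 + b1, a2 + b2, a3 + b3, by simp only [map_add]; ring⟩
  | mul x y _ _ hx hy =>
    obtain ⟨a0, a1, a2, a3, rfl⟩ := hx
    obtain ⟨b0, b1, b2, b3, rfl⟩ := hy
    refine ⟨a0 * b0 + X 0 ^ 3 * (a1 * b1) + X 1 ^ 3 * (a2 * b2) + X 0 ^ 3 * X 1 ^ 3 * (a3 * b3),
      a0 * b1 + a1 * b0 + X 1 ^ 3 * (a2 * b3 + a3 * b2),
      a0 * b2 + a2 * b0 + X 0 ^ 3 * (a1 * b3 + a3 * b1),
      a0 * b3 + a3 * b0 + a1 * b2 + a2 * b1, ?_⟩
    simp only [map_add, map_mul, map_pow, expand_X]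
    ring

theorem ker_eq (hτ : IsUnit τ) {a : MvPolynomial (Fin 2) R} (ha : a ∈ Algebra.adjoin R
      ({X 0 ^ 2, X 0 ^ 3, X 1 ^ 2, X 1 ^ 3} : Set (MvPolynomial (Fin 2) R))) :
    Dv l0 l2 l4 s0 s2 s4 τ a = 0 ↔
      a ∈ Algebra.adjoin R ({X 0 ^ 2, X 1 ^ 2, gz l0 l2 l4 s0 s2 s4 τ} : Set (MvPolynomial (Fin 2) R)) := by
  constructor
  · intro h
    obtain ⟨e0, e1, e2, e3, rfl⟩ := decomp ha
    simp only [map_add, Derivation.leibniz, smul_eq_mul, deriv_expand, deriv_cube, Dv_X0, Dv_X1] at h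
    have hW : (expand 2 (Lp l0 l2 l4) + C τ * X 0 ^ 3) * (expand 2 e1 + X 1 ^ 3 * expand 2 e3) +
        (expand 2 (Sp s0 s2 s4) + C τ * X 1 ^ 3) * (expand 2 e2 + X 0 ^ 3 * expand 2 e3) = 0 := by
      refine ((isRegular_X_pow (n := (0 : Fin 2)) 2).mul (isRegular_X_pow (n := (1 : Fin 2)) 2)).left ?_
      simp only [mul_zero]
      linear_combination h
    have h0 := congrArg (pderiv (0 : Fin 2)) hW
    simp only [map_add, map_zero, Derivation.leibniz, smul_eq_mul, deriv_expand, deriv_cube, pderiv_C,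
      pderiv_X_self, pderiv_X_of_ne (show (1 : Fin 2) ≠ 0 by decide)] at h0
    have h1 := congrArg (pderiv (1 : Fin 2)) hW
    simp only [map_add, map_zero, Derivation.leibniz, smul_eq_mul, deriv_expand, deriv_cube, pderiv_C,
      pderiv_X_self, pderiv_X_of_ne (show (0 : Fin 2) ≠ 1 by decide)] at h1
    have e10 : C τ * e1 + Sp s0 s2 s4 * e3 = 0 := by
      refine expand_injective (R := R) (σ := Fin 2) two_pos ?_
      refine (isRegular_X_pow (n := (0 : Fin 2)) 2).left ?_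
      simp only [map_add, map_mul, expand_C, map_zero, mul_zero]
      linear_combination h0 - (X 0 ^ 2 * C τ * X 1 ^ 3 * expand 2 e3) * two_eq_zero (R := R) (σ := Fin 2)
    have e20 : C τ * e2 + Lp l0 l2 l4 * e3 = 0 := by
      refine expand_injective (R := R) (σ := Fin 2) two_pos ?_
      refine (isRegular_X_pow (n := (1 : Fin 2)) 2).left ?_
      simp only [map_add, map_mul, expand_C, map_zero, mul_zero]
      linear_combination h1 - (X 1 ^ 2 * C τ * X 0 ^ 3 * expand 2 e3) * two_eq_zero (R := R) (σ := Fin 2)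
    obtain ⟨t, ht⟩ := hτ.exists_left_inv
    have hC : (C t : MvPolynomial (Fin 2) R) * C τ = 1 := by rw [← map_mul, ht, map_one]
    have h1' : expand 2 e1 = C t * expand 2 (Sp s0 s2 s4) * expand 2 e3 := by
      have := congrArg (expand 2) e10
      simp only [map_add, map_mul, expand_C, map_zero] at this
      linear_combination C t * this - expand 2 e1 * hC -
        (C t * expand 2 (Sp s0 s2 s4) * expand 2 e3) * two_eq_zero (R := R) (σ := Fin 2)
    have h2' : expand 2 e2 = C t * expand 2 (Lp l0 l2 l4) * expand 2 e3 := by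
      have := congrArg (expand 2) e20
      simp only [map_add, map_mul, expand_C, map_zero] at this
      linear_combination C t * this - expand 2 e2 * hC -
        (C t * expand 2 (Lp l0 l2 l4) * expand 2 e3) * two_eq_zero (R := R) (σ := Fin 2)
    have e : expand 2 e0 + X 0 ^ 3 * expand 2 e1 + X 1 ^ 3 * expand 2 e2 + X 0 ^ 3 * X 1 ^ 3 * expand 2 e3 =
        expand 2 e0 + expand 2 (C t * e3) * gz l0 l2 l4 s0 s2 s4 τ := by
      rw [gz_eq, map_mul, expand_C, h1', h2']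
      linear_combination -(X 0 ^ 3 * X 1 ^ 3 * expand 2 e3) * hC
    rw [e]
    have hle : Algebra.adjoin R ({X 0 ^ 2, X 1 ^ 2} : Set (MvPolynomial (Fin 2) R)) ≤
        Algebra.adjoin R ({X 0 ^ 2, X 1 ^ 2, gz l0 l2 l4 s0 s2 s4 τ} : Set (MvPolynomial (Fin 2) R)) := by
      apply Algebra.adjoin_mono
      intro z hz
      rcases hz with rfl | rfl <;> simp
    exact add_mem (hle (expand_mem_adjoin _))
      (mul_mem (hle (expand_mem_adjoin _)) (Algebra.subset_adjoin (by simp)))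
  · intro h
    clear ha
    induction h using Algebra.adjoin_induction with
    | mem z hz =>
      rcases hz with rfl | rfl | rfl
      · rw [← expand_X]; exact deriv_expand _ _
      · rw [← expand_X]; exact deriv_expand _ _
      · rw [gz_eq]
        simp only [map_add, Derivation.leibniz, smul_eq_mul, deriv_expand, deriv_cube, Dv_X0, Dv_X1]
        rw [← MvPolynomial.algebraMap_eq, Derivation.map_algebraMap, MvPolynomial.algebraMap_eq]
        linear_combination (X 0 ^ 2 * X 1 ^ 2 * (expand 2 (Lp l0 l2 l4) + C τ * X 0 ^ 3) *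
          (expand 2 (Sp s0 s2 s4) + C τ * X 1 ^ 3)) * two_eq_zero (R := R) (σ := Fin 2)
    | algebraMap r => exact Derivation.map_algebraMap _ r
    | add x y _ _ hx hy => rw [map_add, hx, hy, add_zero]
    | mul x y _ _ hx hy => rw [Derivation.leibniz, hx, hy, smul_zero, smul_zero, add_zero]

/-- The relation among the three generators. -/
def rel : MvPolynomial (Fin 3) R :=
  X 2 ^ 2 + C (s0 ^ 2) * X 0 ^ 3 * X 1 ^ 4 + C (s2 ^ 2) * X 0 ^ 3 * X 1 ^ 2 +
    C (s4 ^ 2) * X 0 ^ 3 + C (l0 ^ 2) * X 0 ^ 4 * X 1 ^ 3 + C (l2 ^ 2) * X 0 ^ 2 * X 1 ^ 3 +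
    C (l4 ^ 2) * X 1 ^ 3 + C (τ ^ 2) * X 0 ^ 3 * X 1 ^ 3

theorem relation_ker (hτ : IsUnit τ) :
    RingHom.ker (MvPolynomial.aeval (R := R) (S₁ := MvPolynomial (Fin 2) R)
        ![X 0 ^ 2, X 1 ^ 2, gz l0 l2 l4 s0 s2 s4 τ]) =
      Ideal.span {rel l0 l2 l4 s0 s2 s4 τ} := by
  set φ := MvPolynomial.aeval (R := R) (S₁ := MvPolynomial (Fin 2) R)
    ![X 0 ^ 2, X 1 ^ 2, gz l0 l2 l4 s0 s2 s4 τ] with hφ
  set I := Ideal.span {rel l0 l2 l4 s0 s2 s4 τ}
  have hrel : φ (rel l0 l2 l4 s0 s2 s4 τ) = 0 := by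
    simp only [hφ, rel, map_add, map_mul, map_pow, aeval_X, aeval_C, MvPolynomial.algebraMap_eq,
      Matrix.cons_val_zero, Matrix.cons_val_one, Matrix.cons_val, gz]
    ring_nf
    simp [two_eq_zero (R := R) (σ := Fin 2)]
  have hle : I ≤ RingHom.ker φ := by
    rw [Ideal.span_le, Set.singleton_subset_iff]
    exact hrel
  refine le_antisymm ?_ hle
  let ι : MvPolynomial (Fin 2) R →ₐ[R] MvPolynomial (Fin 3) R := rename Fin.castSucc
  have hι : ∀ e, φ (ι e) = expand 2 e := by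
    intro e
    induction e using MvPolynomial.induction_on with
    | C r => simp [ι, hφ, expand_C, rename_C]
    | add p q hp hq => simp only [map_add, hp, hq]
    | mul_X p i hp =>
      simp only [map_mul, hp, expand_X]
      fin_cases i <;> simp [ι, hφ]
  let rest : MvPolynomial (Fin 2) R :=
    C (s0 ^ 2) * X 0 ^ 3 * X 1 ^ 4 + C (s2 ^ 2) * X 0 ^ 3 * X 1 ^ 2 +
      C (s4 ^ 2) * X 0 ^ 3 + C (l0 ^ 2) * X 0 ^ 4 * X 1 ^ 3 + C (l2 ^ 2) * X 0 ^ 2 * X 1 ^ 3 +
      C (l4 ^ 2) * X 1 ^ 3 + C (τ ^ 2) * X 0 ^ 3 * X 1 ^ 3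
  have hrest : rel l0 l2 l4 s0 s2 s4 τ = X 2 ^ 2 + ι rest := by
    simp only [rel, rest, ι, map_add, map_mul, map_pow, rename_X, rename_C]
    simp only [Fin.castSucc_zero, show Fin.castSucc (1 : Fin 2) = (1 : Fin 3) from rfl]
    ring
  have hdiv : ∀ P : MvPolynomial (Fin 3) R, ∃ P0 P1, P - (ι P0 + X 2 * ι P1) ∈ I := by
    intro P
    induction P using MvPolynomial.induction_on with
    | C r => exact ⟨C r, 0, by simp [ι, rename_C]⟩
    | add p q hp hq =>
      obtain ⟨a, b, h⟩ := hp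
      obtain ⟨c, d, h'⟩ := hq
      refine ⟨a + c, b + d, ?_⟩
      convert add_mem h h' using 1
      simp only [map_add]
      ring
    | mul_X p i hp =>
      obtain ⟨a, b, h⟩ := hp
      have hi : i = Fin.castSucc 0 ∨ i = Fin.castSucc 1 ∨ i = 2 := by fin_cases i <;> simp
      rcases hi with rfl | rfl | rfl
      · refine ⟨a * X 0, b * X 0, ?_⟩
        convert I.mul_mem_right (X (Fin.castSucc 0)) h using 1
        simp only [map_mul, ι, rename_X]
        ring
      · refine ⟨a * X 1, b * X 1, ?_⟩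
        convert I.mul_mem_right (X (Fin.castSucc 1)) h using 1
        simp only [map_mul, ι, rename_X]
        ring
      · refine ⟨-(b * rest), a, ?_⟩
        convert add_mem (I.mul_mem_right (X 2) h)
          (I.mul_mem_left (ι b) (Ideal.subset_span (Set.mem_singleton _))) using 1
        rw [hrest, map_neg, map_mul]
        ring
  intro P hP
  obtain ⟨a, b, h⟩ := hdiv P
  have h0 : φ (P - (ι a + X 2 * ι b)) = 0 := hle h
  rw [map_sub, (RingHom.mem_ker).mp hP, map_add, map_mul, hι, hι] at h0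
  have hz : φ (X 2) = gz l0 l2 l4 s0 s2 s4 τ := by simp [hφ]
  rw [hz, zero_sub, neg_eq_zero] at h0
  have h1 := congrArg (fun f => pderiv (1 : Fin 2) (pderiv (0 : Fin 2) f)) h0
  simp only [map_add, map_zero, Derivation.leibniz, smul_eq_mul, deriv_expand, pderiv_zero_gz, deriv_cube,
    pderiv_C, pow_two, pderiv_X_self, pderiv_X_of_ne (show (0 : Fin 2) ≠ 1 by decide), mul_zero, zero_mul,
    add_zero, zero_add, mul_one] at h1
  have hb : b = 0 := by
    refine expand_injective (R := R) (σ := Fin 2) two_pos ?_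
    refine ((isRegular_X_pow (n := (0 : Fin 2)) 2).mul (isRegular_X_pow (n := (1 : Fin 2)) 2)).left ?_
    refine (hτ.map (C : R →+* MvPolynomial (Fin 2) R)).mul_right_eq_zero.mp ?_ |>.trans ?_
    · linear_combination h1
    · simp
  subst hb
  simp only [map_zero, mul_zero, add_zero, zero_mul] at h0
  have ha : a = 0 := (expand_eq_zero two_pos).mp (by simpa using h0)
  subst ha
  simpa using h

end Groth.Agent.Kum61
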