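import Groth.Agent.Kum61.Char2

/-!
# The derivation of the quadruple point in characteristic two, smooth chart
-/

set_option autoImplicit false

noncomputable section

open MvPolynomial

universe u

namespace Groth.Agent.Kum61.Smooth

open Groth.Agent.Kum61

variable {R : Type u} [CommRing R] (l0 l2 l4 s0 s2 s4 τ : R)

/-- The third generator. -/
def h : MvPolynomial (Fin 2) R :=
  (C s4 * X 1 ^ 4 + C s2 * X 1 ^ 2 + C s0) * X 0 +
    (C l4 * X 0 ^ 4 + C l2 * X 0 ^ 2 + C l0) * X 1 + C τ * X 0 * X 1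

/-- The generators. -/
def gens : MvPolynomial (Fin 3) R →ₐ[R] MvPolynomial (Fin 2) R :=
  MvPolynomial.aeval (R := R) (S₁ := MvPolynomial (Fin 2) R) ![X 0 ^ 2, X 1 ^ 2, h l0 l2 l4 s0 s2 s4 τ]

/-- The derivation. -/
def Dv : Derivation R (MvPolynomial (Fin 2) R) (MvPolynomial (Fin 2) R) :=
  MvPolynomial.mkDerivation R
    (![C l4 * X 0 ^ 4 + C l2 * X 0 ^ 2 + C τ * X 0 + C l0,
       C s4 * X 1 ^ 4 + C s2 * X 1 ^ 2 + C τ * X 1 + C s0] : Fin 2 → MvPolynomial (Fin 2) R)

theorem h_eq : h l0 l2 l4 s0 s2 s4 τ = expand 2 (Sp s4 s2 s0) * X 0 +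
    expand 2 (Lp l4 l2 l0) * X 1 + C τ * X 0 * X 1 := by
  simp only [h, Sp, Lp, map_add, map_mul, map_pow, expand_X, expand_C]
  ring

theorem Dv_X0 : Dv l0 l2 l4 s0 s2 s4 τ (X 0) = expand 2 (Lp l4 l2 l0) + C τ * X 0 := by
  simp only [Dv, mkDerivation_X, Matrix.cons_val_zero, Lp, map_add, map_mul, map_pow, expand_X, expand_C]
  ring

theorem Dv_X1 : Dv l0 l2 l4 s0 s2 s4 τ (X 1) = expand 2 (Sp s4 s2 s0) + C τ * X 1 := by
  simp only [Dv, mkDerivation_X, Matrix.cons_val_one, Matrix.cons_val_zero, Sp, map_add, map_mul, map_pow,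
    expand_X, expand_C]
  ring

theorem gens_rename (e : MvPolynomial (Fin 2) R) :
    gens l0 l2 l4 s0 s2 s4 τ (rename Fin.castSucc e) = expand 2 e := by
  induction e using MvPolynomial.induction_on with
  | C r => simp [gens, expand_C, rename_C]
  | add p q hp hq => simp only [map_add, hp, hq]
  | mul_X p i hp =>
    simp only [map_mul, hp, expand_X]
    fin_cases i <;> simp [gens]

theorem decomp (a : MvPolynomial (Fin 2) R) :
    ∃ e0 e1 e2 e3 : MvPolynomial (Fin 2) R, a = expand 2 e0 + X 0 * expand 2 e1 +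
      X 1 * expand 2 e2 + X 0 * X 1 * expand 2 e3 := by
  induction a using MvPolynomial.induction_on with
  | C r => exact ⟨C r, 0, 0, 0, by simp [expand_C]⟩
  | add x y hx hy =>
    obtain ⟨a0, a1, a2, a3, rfl⟩ := hx
    obtain ⟨b0, b1, b2, b3, rfl⟩ := hy
    exact ⟨a0 + b0, a1 + b1, a2 + b2, a3 + b3, by simp only [map_add]; ring⟩
  | mul_X p i hp =>
    obtain ⟨a0, a1, a2, a3, rfl⟩ := hp
    have hi : i = 0 ∨ i = 1 := by fin_cases i <;> simp
    rcases hi with rfl | rfl
    · refine ⟨X 0 * a1, a0, X 0 * a3, a2, ?_⟩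
      simp only [map_mul, expand_X]
      ring
    · refine ⟨X 1 * a2, X 1 * a3, a0, a1, ?_⟩
      simp only [map_mul, expand_X]
      ring

variable [CharP R 2]

theorem ker_iff (hτ : IsUnit τ) (p : MvPolynomial (Fin 2) R) :
    Dv l0 l2 l4 s0 s2 s4 τ p = 0 ↔ p ∈ (gens l0 l2 l4 s0 s2 s4 τ).range := by
  constructor
  · intro hp
    obtain ⟨e0, e1, e2, e3, rfl⟩ := decomp p
    simp only [map_add, Derivation.leibniz, smul_eq_mul, deriv_expand, Dv_X0, Dv_X1] at hp
    have hW : (expand 2 (Lp l4 l2 l0) + C τ * X 0) * (expand 2 e1 + X 1 * expand 2 e3) +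
        (expand 2 (Sp s4 s2 s0) + C τ * X 1) * (expand 2 e2 + X 0 * expand 2 e3) = 0 := by
      linear_combination hp
    have h0 := congrArg (pderiv (0 : Fin 2)) hW
    simp only [map_add, map_zero, Derivation.leibniz, smul_eq_mul, deriv_expand, pderiv_C,
      pderiv_X_self, pderiv_X_of_ne (show (1 : Fin 2) ≠ 0 by decide)] at h0
    have h1 := congrArg (pderiv (1 : Fin 2)) hW
    simp only [map_add, map_zero, Derivation.leibniz, smul_eq_mul, deriv_expand, pderiv_C,
      pderiv_X_self, pderiv_X_of_ne (show (0 : Fin 2) ≠ 1 by decide)] at h1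
    obtain ⟨t, ht⟩ := hτ.exists_left_inv
    have hC : (C t : MvPolynomial (Fin 2) R) * C τ = 1 := by rw [← map_mul, ht, map_one]
    have h1' : expand 2 e1 = C t * expand 2 (Sp s4 s2 s0) * expand 2 e3 := by
      linear_combination C t * h0 - expand 2 e1 * hC -
        (C t * C τ * X 1 * expand 2 e3 + C t * expand 2 (Sp s4 s2 s0) * expand 2 e3) *
          two_eq_zero (R := R) (σ := Fin 2)
    have h2' : expand 2 e2 = C t * expand 2 (Lp l4 l2 l0) * expand 2 e3 := by
      linear_combination C t * h1 - expand 2 e2 * hC -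
        (C t * C τ * X 0 * expand 2 e3 + C t * expand 2 (Lp l4 l2 l0) * expand 2 e3) *
          two_eq_zero (R := R) (σ := Fin 2)
    refine ⟨rename Fin.castSucc e0 + X 2 * rename Fin.castSucc (C t * e3), ?_⟩
    have hz : gens l0 l2 l4 s0 s2 s4 τ (X 2) = h l0 l2 l4 s0 s2 s4 τ := by simp [gens]
    change gens l0 l2 l4 s0 s2 s4 τ _ = _
    rw [map_add, map_mul (gens l0 l2 l4 s0 s2 s4 τ), gens_rename, gens_rename, hz, h_eq, map_mul, expand_C,
      h1', h2']
    linear_combination (X 0 * X 1 * expand 2 e3) * hC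
  · rintro ⟨q, rfl⟩
    change Dv l0 l2 l4 s0 s2 s4 τ (gens l0 l2 l4 s0 s2 s4 τ q) = 0
    induction q using MvPolynomial.induction_on with
    | C r =>
      rw [gens, MvPolynomial.aeval_C, Derivation.map_algebraMap]
    | add p q hp hq => rw [map_add, map_add, hp, hq, add_zero]
    | mul_X p i hp =>
      rw [map_mul, Derivation.leibniz, hp, smul_zero, add_zero]
      have hi : Dv l0 l2 l4 s0 s2 s4 τ (gens l0 l2 l4 s0 s2 s4 τ (X i)) = 0 := by
        simp only [gens, MvPolynomial.aeval_X]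
        fin_cases i
        · simp only [Fin.zero_eta, Matrix.cons_val_zero, ← expand_X, deriv_expand]
        · simp only [Fin.mk_one, Matrix.cons_val_one, Matrix.cons_val_zero, ← expand_X, deriv_expand]
        · show Dv l0 l2 l4 s0 s2 s4 τ (h l0 l2 l4 s0 s2 s4 τ) = 0
          rw [h_eq]
          simp only [map_add, Derivation.leibniz, smul_eq_mul, deriv_expand, Dv_X0, Dv_X1]
          rw [← MvPolynomial.algebraMap_eq, Derivation.map_algebraMap, MvPolynomial.algebraMap_eq]
          linear_combination ((expand 2 (Lp l4 l2 l0) + C τ * X 0) *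
            (expand 2 (Sp s4 s2 s0) + C τ * X 1)) * two_eq_zero (R := R) (σ := Fin 2)
      rw [hi, smul_zero]

/-- The relation among the three generators. -/
def rel : MvPolynomial (Fin 3) R :=
  X 2 ^ 2 + C (τ ^ 2) * X 0 * X 1 +
    (C (s4 ^ 2) * X 1 ^ 4 + C (s2 ^ 2) * X 1 ^ 2 + C (s0 ^ 2)) * X 0 +
    (C (l4 ^ 2) * X 0 ^ 4 + C (l2 ^ 2) * X 0 ^ 2 + C (l0 ^ 2)) * X 1

theorem relation_ker (hτ : IsUnit τ) :
    RingHom.ker (gens l0 l2 l4 s0 s2 s4 τ) = Ideal.span {rel l0 l2 l4 s0 s2 s4 τ} := by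
  set φ := gens l0 l2 l4 s0 s2 s4 τ with hφ
  set I := Ideal.span {rel l0 l2 l4 s0 s2 s4 τ}
  have hrel : φ (rel l0 l2 l4 s0 s2 s4 τ) = 0 := by
    simp only [hφ, gens, rel, map_add, map_mul, map_pow, aeval_X, aeval_C, MvPolynomial.algebraMap_eq,
      Matrix.cons_val_zero, Matrix.cons_val_one, Matrix.cons_val, h]
    ring_nf
    simp [two_eq_zero (R := R) (σ := Fin 2)]
  have hle : I ≤ RingHom.ker φ := by
    rw [Ideal.span_le, Set.singleton_subset_iff]
    exact hrel
  refine le_antisymm ?_ hle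
  let ι : MvPolynomial (Fin 2) R →ₐ[R] MvPolynomial (Fin 3) R := rename Fin.castSucc
  let rest : MvPolynomial (Fin 2) R := C (τ ^ 2) * X 0 * X 1 +
    (C (s4 ^ 2) * X 1 ^ 4 + C (s2 ^ 2) * X 1 ^ 2 + C (s0 ^ 2)) * X 0 +
    (C (l4 ^ 2) * X 0 ^ 4 + C (l2 ^ 2) * X 0 ^ 2 + C (l0 ^ 2)) * X 1
  have hrest : rel l0 l2 l4 s0 s2 s4 τ = X 2 ^ 2 + ι rest := by
    simp only [rel, rest, ι, map_add, map_mul, map_pow, rename_X, rename_C]
    simp only [Fin.castSucc_zero, show Fin.castSucc (1 : Fin 2) = (1 : Fin 3) from rfl]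
    ring
  have hdiv : ∀ P : MvPolynomial (Fin 3) R, ∃ P0 P1, P - (ι P0 + X 2 * ι P1) ∈ I := by
    intro P
    induction P using MvPolynomial.induction_on with
    | C r => exact ⟨C r, 0, by simp [ι, rename_C]⟩
    | add p q hp hq =>
      obtain ⟨a, b, h⟩ := hp
      obtain ⟨c, d, h'⟩ := hq
      refine ⟨a + c, b + d, ?_⟩
      convert add_mem h h' using 1
      simp only [map_add]
      ring
    | mul_X p i hp =>
      obtain ⟨a, b, h⟩ := hp
      have hi : i = Fin.castSucc 0 ∨ i = Fin.castSucc 1 ∨ i = 2 := by fin_cases i <;> simp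
      rcases hi with rfl | rfl | rfl
      · refine ⟨a * X 0, b * X 0, ?_⟩
        convert I.mul_mem_right (X (Fin.castSucc 0)) h using 1
        simp only [map_mul, ι, rename_X]
        ring
      · refine ⟨a * X 1, b * X 1, ?_⟩
        convert I.mul_mem_right (X (Fin.castSucc 1)) h using 1
        simp only [map_mul, ι, rename_X]
        ring
      · refine ⟨-(b * rest), a, ?_⟩
        convert add_mem (I.mul_mem_right (X 2) h)
          (I.mul_mem_left (ι b) (Ideal.subset_span (Set.mem_singleton _))) using 1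
        rw [hrest, map_neg, map_mul]
        ring
  intro P hP
  obtain ⟨a, b, hab⟩ := hdiv P
  have h0 : φ (P - (ι a + X 2 * ι b)) = 0 := hle hab
  rw [map_sub, (RingHom.mem_ker).mp hP, map_add, map_mul, gens_rename, gens_rename] at h0
  have hz : φ (X 2) = h l0 l2 l4 s0 s2 s4 τ := by simp [hφ, gens]
  rw [hz, zero_sub, neg_eq_zero, h_eq] at h0
  have h1 := congrArg (fun f => pderiv (1 : Fin 2) (pderiv (0 : Fin 2) f)) h0
  simp only [map_add, map_zero, Derivation.leibniz, smul_eq_mul, deriv_expand, pderiv_C, pderiv_X_self,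
    pderiv_X_of_ne (show (0 : Fin 2) ≠ 1 by decide), pderiv_X_of_ne (show (1 : Fin 2) ≠ 0 by decide),
    mul_zero, zero_mul, add_zero, zero_add, mul_one, pderiv_one] at h1
  have hb : b = 0 := by
    refine (expand_eq_zero (R := R) (σ := Fin 2) two_pos).mp ?_
    refine (hτ.map (C : R →+* MvPolynomial (Fin 2) R)).mul_right_eq_zero.mp ?_
    linear_combination h1
  subst hb
  simp only [map_zero, mul_zero, add_zero] at h0
  have ha : a = 0 := (expand_eq_zero two_pos).mp h0
  subst ha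
  simpa using hab

end Groth.Agent.Kum61.Smooth
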